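import Mathlib
import Cfsg.Agent.Lib.Helper19.KAlt.Defs5
import Cfsg.Agent.Lib.Helper75.LW.All
import Cfsg.Agent.S4221

/-!
# LW5 (S0748), package [HALL5]

M. Hall's theorem (S4221) excludes a `4`-transitive `k`-homogeneous group (`5 ≤ k`, `2k ≤ n`)
without involutions fixing four points.
-/

set_option autoImplicit false

namespace Cfsg.Agent.Lib.Helper24.KAlt

open Cfsg.Agent.Lib.Helper19.KAlt Cfsg.Agent.Lib.Helper75.LW

universe u

theorem pkgHall5 (hOdd : PkgOddK.{u}) : PkgHall5.{u} := by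
  intro α _ _ G k hk hkn hT4 hNo hH
  have hcard : Fintype.card (Fin 4) ≤ Fintype.card α := by
    rw [Fintype.card_fin]; omega
  obtain ⟨x⟩ : Nonempty (Fin 4 ↪ α) := Function.Embedding.nonempty_of_card_le hcard
  have h := Cfsg.Agent.S4221.result G ((allBrT G 4).mpr hT4) x (hOdd G hNo x)
  rcases h with ⟨h1, -⟩ | ⟨h1, -⟩ | ⟨h11, hG⟩
  · omega
  · omega
  · have hk5 : k = 5 := by omega
    subst hk5
    obtain ⟨s, -, hs⟩ : ∃ s : Finset α, s ⊆ Finset.univ ∧ s.card = 5 :=
      Finset.exists_subset_card_eq (by rw [Finset.card_univ]; omega)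
    have hc := allCntH G 5 s hs hH
    rw [hG, h11] at hc
    have h462 : (11 : ℕ).choose 5 = 462 := by decide
    rw [h462] at hc
    omega

end Cfsg.Agent.Lib.Helper24.KAlt
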